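import Cfsg.Agent.H746.Rg.PslIn
import Cfsg.Agent.H746.Rg.SlGl
import Cfsg.Agent.H835.Rg.Reg
import Cfsg.Agent.H270.Rg.ElGl

/-!
# S5714: powers of random elements of the groups `PSL_n(q)`
-/

set_option autoImplicit false

namespace Cfsg.Agent.H746.Rg

open Cfsg Cfsg.Agent.OrdDiv Cfsg.Agent.H436 Cfsg.Agent.H141.Rg Cfsg.Agent.H835.Rg Cfsg.Agent.H270.Rg Module Matrix
open Cfsg.Agent.H746.Rg.Psl

/-- `T` is isomorphic to `PSL_n(F)`, `|F| = Q` -/
def IsP (T : Type) [Group T] (n Q : ℕ) : Prop :=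
  ∃ (F : Type) (_ : Field F) (_ : Fintype F), Fintype.card F = Q ∧
    Nonempty (T ≃* Matrix.ProjectiveSpecialLinearGroup (Fin n) F)

theorem dat {n : ℕ} {F : Type} [Field F] {T : Type} [Group T]
    (e : T ≃* ProjectiveSpecialLinearGroup (Fin n) F) {d : ℝ} (hd : 0 ≤ d)
    (hdeg : ∀ χ : T → ℂ, IsIrrCharacter T χ → (∃ g, χ g ≠ 1) → d ≤ (χ 1).re) :
    Dat F (Fin n → F) (SpecialLinearGroup (Fin n) F) T (slAct n F) (proj e) d where
  surj := proj_surj e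
  ker := proj_ker e
  inj := slAct_injective
  d0 := hd
  deg := hdeg

/-- the elements which are not good -/
theorem bad_of_core {A : ℝ} {K V X : Type} [Field K] [Finite K] [AddCommGroup V] [Module K V] [Finite V] [Group X]
    [Finite X] {τ : X →* (V →ₗ[K] V)} {k : ℕ}
    (hcore : (Nat.card {x : X // ¬ GoodPow (τ x) (smallP (τ x) (Sml 1 1)) k} : ℝ) ≤ A) :
    (Nat.card {x : X // ¬ ∃ A : Submodule K V, finrank K A ≤ 0 ∧ GoodPow (τ x) A k} : ℝ) ≤ A := by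
  refine le_trans ?_ hcore
  have h1 : {x : X | ¬ ∃ A : Submodule K V, finrank K A ≤ 0 ∧ GoodPow (τ x) A k} ⊆
      {x : X | ¬ GoodPow (τ x) (smallP (τ x) (Sml 1 1)) k} := by
    intro x hx hg
    refine hx ⟨_, ?_, hg⟩
    rw [smallP_one, finrank_bot]
  exact_mod_cast Nat.card_mono (Set.toFinite _) h1

theorem pow_le_aux {Q : ℝ} (hQ : 1 ≤ Q) {D : ℕ} (hD : 1 ≤ D) : (1 : ℝ) * Q ^ (-(D : ℝ) / 16) ≤ Q ^ (-(1 : ℝ) / 16) := by
  rw [one_mul]
  apply Real.rpow_le_rpow_of_exponent_le hQ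
  have : (1 : ℝ) ≤ D := by exact_mod_cast hD
  linarith

theorem root_le {Q : ℝ} (hQ : 1 ≤ Q) : Q ^ ((1 : ℝ) / 16) ≤ Q := by
  calc Q ^ ((1 : ℝ) / 16) ≤ Q ^ (1 : ℝ) := Real.rpow_le_rpow_of_exponent_le hQ (by norm_num)
    _ = Q := Real.rpow_one Q

/-- the degrees, `n ≥ 3` -/
theorem half_le {Q n : ℕ} (hQ : 2 ≤ Q) (hn : 2 ≤ n) : (Q : ℝ) ^ (n - 1) / 2 ≤ ((Q ^ (n - 1) - 1 : ℕ) : ℝ) := by
  have h1 : Q ≤ Q ^ (n - 1) := by
    calc Q = Q ^ 1 := (pow_one Q).symm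
      _ ≤ Q ^ (n - 1) := Nat.pow_le_pow_right (by omega) (by omega)
  rw [Nat.cast_sub (by omega)]
  push_cast
  have h2 : (2 : ℝ) ≤ (Q : ℝ) ^ (n - 1) := by exact_mod_cast hQ.trans h1
  linarith

theorem famP_psl2 (hcore : CoreSt) (hbad : BadSt) : FamP (fun g => ∃ q, g = .psl 2 q) := by
  refine famP_of (fun T _ n Q => n = 2 ∧ 4 ≤ Q ∧ IsP T n Q) ?_ ?_ ?_
  · rintro g T _ _ _ hT ⟨q, rfl⟩
    obtain ⟨F, iF, iFF, hq, ⟨e⟩⟩ := hT.real
    refine ⟨2, q, ⟨rfl, hT.cond.2.1 rfl, F, iF, iFF, hq, ⟨e⟩⟩, ?_⟩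
    rw [← hq]
    exact card_T_le e
  · intro a ε hε
    exact ⟨3, fun T _ _ _ n Q h hn => by have := h.1; omega⟩
  · intro a N ε hε
    obtain ⟨A, hA, hc⟩ := hcore
    obtain ⟨Q0, hQ0⟩ := bdd hbad a 2 0 (ε := ε) (C := 40) (B := 27 * A) hε (by norm_num) (by positivity)
    refine ⟨Q0, ?_⟩
    rintro T _ _ _ n Q ⟨rfl, hQ4, F, iF, iFF, hq, ⟨e⟩⟩ - hQ
    have hQ4' : (4 : ℝ) ≤ Q := by exact_mod_cast hQ4
    have hcF : Nat.card F = Q := by rw [Nat.card_eq_fintype_card, hq]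
    refine hQ0 F (Fin 2 → F) (SpecialLinearGroup (Fin 2) F) T (slAct 2 F) (proj e)
      (((Fintype.card F - 1) / 2 : ℕ) : ℝ)
      (dat e (Nat.cast_nonneg _) (fun χ hχ h => deg_two (by omega) e χ hχ h)) (by rw [finrank_fin_fun]) ?_ ?_ (by rw [hcF]; exact hQ)
    · intro k
      have h1 := hc F (Fin 2 → F) (SpecialLinearGroup (Fin 2) F) (RingHom.id F) (fun _ => rfl) (slAct 2 F) 1 (Or.inl rfl)
        (fun _ => 1) (fun _ => le_refl _) (el_sl2 F) (k + 1) 1 ((Nat.card F : ℝ) ^ (-(1 : ℝ) / 16)) (by positivity)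
        (by omega) (by omega) (fun D hD _ => pow_le_aux (by rw [hcF]; linarith) hD)
      refine (bad_of_core h1).trans (le_of_eq ?_)
      rw [finrank_fin_fun]
      push_cast
      ring
    · rw [hcF, hq]
      have hk : (2 : ℝ) * Nat.card (ConjClasses (SpecialLinearGroup (Fin 2) F)) ≤ 5 * Q := by
        have := card_classes (n := 2) (F := F) (le_refl _)
        rw [hq] at this
        norm_num at this
        exact_mod_cast this
      have hd : (Q : ℝ) / 4 ≤ (((Q - 1) / 2 : ℕ) : ℝ) := by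
        have : Q ≤ 4 * ((Q - 1) / 2) := by omega
        have h2 : (Q : ℝ) ≤ 4 * (((Q - 1) / 2 : ℕ) : ℝ) := by exact_mod_cast this
        linarith
      have h3 := root_le (Q := (Q : ℝ)) (by linarith)
      have h4 : (0 : ℝ) ≤ (Q : ℝ) ^ ((1 : ℝ) / 16) := by positivity
      calc (Q : ℝ) ^ (0 ^ 2) * ((Q : ℝ) ^ ((1 : ℝ) / 16) * Nat.card (ConjClasses (SpecialLinearGroup (Fin 2) F)))
          ≤ 1 * (Q * (5 / 2 * Q)) := by
            norm_num only [pow_zero, one_mul, zero_pow, ne_eq]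
            gcongr
            linarith
        _ ≤ 40 * ((Q : ℝ) / 4) ^ 2 := by nlinarith
        _ ≤ 40 * (((Q - 1) / 2 : ℕ) : ℝ) ^ 2 := by gcongr

theorem famP_psl (hcore : CoreSt) (hsmall : SmallSt) (hbad : BadSt) : FamP (fun g => ∃ n q, 3 ≤ n ∧ g = .psl n q) := by
  -- the numbers
  have num : ∀ (n Q : ℕ) (F : Type) [Field F] [Fintype F], Fintype.card F = Q → 3 ≤ n → 2 ≤ Q → ∀ r : ℝ,
      r ≤ (Q : ℝ) ^ (n - 1) → 0 ≤ r → r * Nat.card (ConjClasses (SpecialLinearGroup (Fin n) F)) ≤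
        10 * ((Q ^ (n - 1) - 1 : ℕ) : ℝ) ^ 2 := by
    intro n Q F _ _ hq hn hQ r hr hr0
    have hk : (2 : ℝ) * Nat.card (ConjClasses (SpecialLinearGroup (Fin n) F)) ≤ 5 * (Q : ℝ) ^ (n - 1) := by
      have := card_classes (n := n) (F := F) (by omega)
      rw [hq] at this
      exact_mod_cast this
    have hd := half_le hQ (show 2 ≤ n by omega)
    have h0 : (0 : ℝ) ≤ (Q : ℝ) ^ (n - 1) := by positivity
    calc r * Nat.card (ConjClasses (SpecialLinearGroup (Fin n) F)) ≤ (Q : ℝ) ^ (n - 1) * (5 / 2 * (Q : ℝ) ^ (n - 1)) := by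
          gcongr
          linarith
      _ = 10 * ((Q : ℝ) ^ (n - 1) / 2) ^ 2 := by ring
      _ ≤ 10 * ((Q ^ (n - 1) - 1 : ℕ) : ℝ) ^ 2 := by gcongr
  refine famP_of (fun T _ n Q => 3 ≤ n ∧ IsP T n Q) ?_ ?_ ?_
  · rintro g T _ _ _ hT ⟨n, q, hn, rfl⟩
    obtain ⟨F, iF, iFF, hq, ⟨e⟩⟩ := hT.real
    refine ⟨n, q, ⟨hn, F, iF, iFF, hq, ⟨e⟩⟩, ?_⟩
    rw [← hq]
    exact card_T_le e
  · intro a ε hε
    obtain ⟨N, hN⟩ := unb hcore hsmall hbad a (ε := ε) (C := 10) (c1 := 1) hε (by norm_num) (le_refl _)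
    refine ⟨N, ?_⟩
    rintro T _ _ _ n Q ⟨hn, F, iF, iFF, hq, ⟨e⟩⟩ hNn
    have hcF : Nat.card F = Q := by rw [Nat.card_eq_fintype_card, hq]
    have hQ2 : 2 ≤ Q := by rw [← hq]; exact Fintype.one_lt_card
    have hQ1 : (1 : ℝ) ≤ Q := by
      have : 1 ≤ Q := by omega
      exact_mod_cast this
    refine hN F (Fin n → F) (SpecialLinearGroup (Fin n) F) T (slAct n F) (proj e)
      ((Fintype.card F ^ (n - 1) - 1 : ℕ) : ℝ) (RingHom.id F) 1 (fun D => if D < n then 1 else Nat.card F)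
      (dat e (Nat.cast_nonneg _) (fun χ hχ h => deg_three hn e χ hχ h)) (fun _ => rfl) (Or.inl rfl) ?_ ?_ ?_
      (el_sl n F _ _) (fun h => absurd rfl h) ?_ (by rw [finrank_fin_fun]; exact hNn)
    · intro D
      split_ifs
      · exact le_refl _
      · rw [hcF]; exact hQ1
    · intro D hD
      rw [finrank_fin_fun] at hD
      rw [if_pos (by omega)]
    · intro D
      split_ifs
      · rw [hcF]; linarith
      · rw [one_mul]
    · rw [finrank_fin_fun, hcF, hq]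
      refine num n Q F hq hn hQ2 _ ?_ (by positivity)
      rw [← Real.rpow_natCast]
      apply Real.rpow_le_rpow_of_exponent_le hQ1
      rw [Nat.cast_sub (by omega)]
      have : (3 : ℝ) ≤ n := by exact_mod_cast hn
      push_cast
      linarith
  · intro a N ε hε
    obtain ⟨A, hA, hc⟩ := hcore
    obtain ⟨Q0, hQ0⟩ := bdd hbad a N 0 (ε := ε) (C := 10) (B := N * (A * ((N : ℝ) + 1) ^ 3)) hε (by norm_num)
      (by positivity)
    refine ⟨Q0, ?_⟩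
    rintro T _ _ _ n Q ⟨hn, F, iF, iFF, hq, ⟨e⟩⟩ hnN hQ
    have hcF : Nat.card F = Q := by rw [Nat.card_eq_fintype_card, hq]
    have hQ2 : 2 ≤ Q := by rw [← hq]; exact Fintype.one_lt_card
    have hQ1 : (1 : ℝ) ≤ Q := by
      have : 1 ≤ Q := by omega
      exact_mod_cast this
    have hnN' : (n : ℝ) ≤ N := by exact_mod_cast hnN
    refine hQ0 F (Fin n → F) (SpecialLinearGroup (Fin n) F) T (slAct n F) (proj e)
      ((Fintype.card F ^ (n - 1) - 1 : ℕ) : ℝ)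
      (dat e (Nat.cast_nonneg _) (fun χ hχ h => deg_three hn e χ hχ h)) (by rw [finrank_fin_fun]; exact hnN) ?_ ?_
      (by rw [hcF]; exact hQ)
    · intro k
      have h1 := hc F (Fin n → F) (GL (Fin n) F) (RingHom.id F) (fun _ => rfl) (glAct n F) 1 (Or.inl rfl)
        (fun _ => 1) (fun _ => le_refl _) (el_gl n F _ _) (k + 1) 1 ((Nat.card F : ℝ) ^ (-(1 : ℝ) / 16)) (by positivity)
        (by omega) (by omega) (fun D hD _ => pow_le_aux (by rw [hcF]; exact hQ1) hD)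
      have h2 := bad_sl_le (F := F) (n := n) (by omega) 0 (k + 1) (bad_of_core h1)
      refine h2.trans ?_
      rw [finrank_fin_fun]
      push_cast
      calc (n : ℝ) * (A * ((k : ℝ) + 1) ^ 3 * ((n : ℝ) + 1) ^ 3 * (Nat.card F : ℝ) ^ (-(1 : ℝ) / 16)) *
            Nat.card (SpecialLinearGroup (Fin n) F)
          ≤ (N : ℝ) * (A * ((k : ℝ) + 1) ^ 3 * ((N : ℝ) + 1) ^ 3 * (Nat.card F : ℝ) ^ (-(1 : ℝ) / 16)) *
            Nat.card (SpecialLinearGroup (Fin n) F) := by gcongr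
        _ = _ := by ring
    · rw [hcF, hq]
      have h3 := root_le (Q := (Q : ℝ)) hQ1
      have h4 := num n Q F hq hn hQ2 ((Q : ℝ) ^ ((1 : ℝ) / 16)) (h3.trans ?_) (by positivity)
      · norm_num only [pow_zero, one_mul, zero_pow, ne_eq]
        exact h4
      · calc (Q : ℝ) = (Q : ℝ) ^ 1 := (pow_one _).symm
          _ ≤ (Q : ℝ) ^ (n - 1) := pow_le_pow_right₀ hQ1 (by omega)

end Cfsg.Agent.H746.Rg
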