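import Cfsg.Agent.H141.Rg.Lin

/-!
# S5714: the index trick

* `index_trick` : if a set of bad elements of a finite group `Y` is invariant under the multiplication by the elements
  `ζ c` (`c` in a finite group `C`), then `|C| |bad (S)| ≤ |{c | ζ c ∈ S}| |bad (Y)|` for every subgroup `S`;
* `goodPow_smul` : `GoodPow` is invariant under scalars;
* `smallP_one` : there are no small polynomials of degree less than one.
-/

set_option autoImplicit false

namespace Cfsg.Agent.H746.Rg

open Cfsg Cfsg.Agent.H141.Rg Polynomial Module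

theorem index_trick {Y C : Type*} [Group Y] [Finite Y] [Group C] [Finite C] (ζ : C →* Y) (S : Subgroup Y)
    (P : Y → Prop) (hP : ∀ c y, P y → P (ζ c * y)) :
    Nat.card C * Nat.card {x : S // P x} ≤ Nat.card {c : C // ζ c ∈ S} * Nat.card {y : Y // P y} := by
  classical
  rw [← Nat.card_prod, ← Nat.card_prod]
  -- choose a base point in every fibre
  let f : C × {x : S // P x} → {y : Y // P y} := fun p => ⟨ζ p.1 * (p.2.1 : Y), hP _ _ p.2.2⟩
  let b : {y : Y // P y} → C × {x : S // P x} → C := fun y p =>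
    if h : ∃ r : C × {x : S // P x}, f r = y then h.choose.1 else p.1
  have hb : ∀ p, ζ ((b (f p) p)⁻¹ * p.1) ∈ S := by
    intro p
    have h : ∃ r : C × {x : S // P x}, f r = f p := ⟨p, rfl⟩
    have h1 : b (f p) p = h.choose.1 := dif_pos h
    have h2 := congrArg Subtype.val h.choose_spec
    change ζ h.choose.1 * (h.choose.2.1 : Y) = ζ p.1 * (p.2.1 : Y) at h2
    rw [h1, map_mul, map_inv]
    have h3 : (ζ h.choose.1)⁻¹ * ζ p.1 = (h.choose.2.1 : Y) * (p.2.1 : Y)⁻¹ := by
      rw [eq_mul_inv_iff_mul_eq, mul_assoc, ← h2, inv_mul_cancel_left]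
    rw [h3]
    exact S.mul_mem h.choose.2.1.2 (S.inv_mem p.2.1.2)
  have hbc : ∀ p p', f p = f p' → b (f p) p = b (f p') p' := by
    intro p p' he
    have h : ∃ r : C × {x : S // P x}, f r = f p := ⟨p, rfl⟩
    have h' : ∃ r : C × {x : S // P x}, f r = f p' := ⟨p', rfl⟩
    have h1 : b (f p) p = h.choose.1 := dif_pos h
    have h2 : b (f p') p' = h'.choose.1 := dif_pos h'
    rw [h1, h2]
    simp only [he]
  refine Nat.card_le_card_of_injective (fun p => ((⟨(b (f p) p)⁻¹ * p.1, hb p⟩ : {c : C // ζ c ∈ S}), f p)) ?_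
  intro p p' he
  have h1 := congrArg Prod.snd he
  have h2 := congrArg (fun t => t.1.1) he
  change f p = f p' at h1
  change (b (f p) p)⁻¹ * p.1 = (b (f p') p')⁻¹ * p'.1 at h2
  rw [hbc p p' h1] at h2
  have h3 : p.1 = p'.1 := mul_left_cancel h2
  have h4 := congrArg Subtype.val h1
  change ζ p.1 * (p.2.1 : Y) = ζ p'.1 * (p'.2.1 : Y) at h4
  rw [h3] at h4
  exact Prod.ext h3 (Subtype.ext (Subtype.ext (mul_left_cancel h4)))

section

variable {K V : Type*} [Field K] [AddCommGroup V] [Module K V]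

theorem goodPow_smul {y : V →ₗ[K] V} {A : Submodule K V} {k : ℕ} (h : GoodPow y A k) {a : K} (ha : a ≠ 0) :
    GoodPow (a • y) A k := by
  obtain ⟨B, hAB, hA, hB, hc⟩ := h
  refine ⟨B, hAB, fun v hv => A.smul_mem a (hA v hv), fun v hv => B.smul_mem a (hB v hv), ?_⟩
  intro m hm hmk f hf
  have hf' : Commute f (y ^ m) := by
    rw [_root_.smul_pow] at hf
    have h1 : f * (a ^ m • y ^ m) = (a ^ m • y ^ m) * f := hf
    rw [mul_smul_comm, smul_mul_assoc] at h1
    exact smul_right_injective _ (pow_ne_zero m ha) h1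
  obtain ⟨h1, h2, h3⟩ := hc m hm hmk f hf'
  refine ⟨h1, h2, fun b hb => ?_⟩
  rw [LinearMap.smul_apply, LinearMap.smul_apply, map_smul, h3 b hb]

theorem goodPow_smul_iff {y : V →ₗ[K] V} {A : Submodule K V} {k : ℕ} {a : K} (ha : a ≠ 0) :
    GoodPow (a • y) A k ↔ GoodPow y A k := by
  refine ⟨fun h => ?_, fun h => goodPow_smul h ha⟩
  have := goodPow_smul h (inv_ne_zero ha)
  rwa [inv_smul_smul₀ ha] at this

theorem Sml_one_one : Sml 1 (1 : K[X]) = ∅ := by
  rw [Set.eq_empty_iff_forall_notMem]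
  rintro f ⟨⟨hm, hi, -⟩, h | h⟩
  · exact hi.not_isUnit ((hm.natDegree_eq_zero.1 (by omega)) ▸ isUnit_one)
  · exact hi.not_isUnit (isUnit_of_dvd_one h)

theorem smallP_one (y : V →ₗ[K] V) : smallP y (Sml 1 1) = ⊥ := by
  unfold smallP
  rw [Sml_one_one]
  simp

end

end Cfsg.Agent.H746.Rg
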