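import Cfsg.Agent.H746.Rg.Inst
import Cfsg.Agent.H746.Rg.Psl

/-!
# S5714: `FamP` for the groups `PSL_n(q)`
-/

set_option autoImplicit false

namespace Cfsg.Agent.H746.Rg.PslFin

open Cfsg Cfsg.Agent.OrdDiv Cfsg.Agent.H141.Rg

theorem famP_psl2 : FamP (fun g => ∃ q, g = .psl 2 q) := Cfsg.Agent.H746.Rg.famP_psl2 coreSt badSt

theorem famP_psl : FamP (fun g => ∃ n q, 3 ≤ n ∧ g = .psl n q) :=
  Cfsg.Agent.H746.Rg.famP_psl coreSt smallSt badSt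

end Cfsg.Agent.H746.Rg.PslFin
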