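import Cfsg.Agent.H141.Rg.Act
import Cfsg.Agent.H141.Rg.Defs
import Cfsg.Agent.H746.Rg.Index
import Cfsg.Agent.S2479
import Cfsg.Agent.H990.TC.PDLin
import Cfsg.Agent.H124.Cyc.RowPSL

/-!
# S5714: the input for the groups `PSL_n(q)`

* the projection `SL_n(q) → T`, its kernel is central;
* the action of `SL_n(q)` on the natural module is faithful;
* orders, degrees of the characters, class numbers.
-/

set_option autoImplicit false

namespace Cfsg.Agent.H746.Rg.Psl

open Cfsg Cfsg.Agent.H141.Rg Module Matrix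

section deg

variable {T : Type*} [Group T]

theorem exists_ne_one {k : ℕ} {ρ : Representation ℂ T (Fin k → ℂ)} (hρ : ρ.IsIrreducible)
    (h : ∃ g, ρ.character g ≠ 1) : ∃ g, ρ g ≠ 1 := by
  by_contra hcon
  push Not at hcon
  obtain ⟨g, hg⟩ := h
  have hch : ρ.character g = k := by
    rw [Representation.character, hcon g, LinearMap.trace_one, finrank_fin_fun]
  rw [hch] at hg
  have hnt : Nontrivial (Subrepresentation ρ) := hρ.toNontrivial
  have hk0 : k ≠ 0 := by
    rintro rfl
    obtain ⟨a, b, hab⟩ := hnt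
    apply hab
    apply Subrepresentation.toSubmodule_injective
    exact Subsingleton.elim _ _
  have hk1 : k ≠ 1 := by
    rintro rfl
    exact hg (by norm_num)
  have h0 : (0 : ℕ) < k := by omega
  let v : Fin k → ℂ := Pi.single ⟨0, h0⟩ 1
  have hv : v ≠ 0 := by
    intro h
    have := congrFun h ⟨0, h0⟩
    simp [v] at this
  let W : Subrepresentation ρ :=
    { toSubmodule := Submodule.span ℂ {v}
      apply_mem_toSubmodule := by
        intro g w hw
        rw [hcon g]
        exact hw }
  have hW : W = ⊥ ∨ W = ⊤ := hρ.eq_bot_or_eq_top W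
  rcases hW with hW | hW
  · have h1 : v ∈ W.toSubmodule := Submodule.mem_span_singleton_self v
    rw [hW] at h1
    exact hv ((Submodule.mem_bot ℂ).mp h1)
  · have h1 : W.toSubmodule = ⊤ := by rw [hW]; rfl
    have h2 : Module.finrank ℂ (Submodule.span ℂ {v}) = k := by
      change Module.finrank ℂ W.toSubmodule = k
      rw [h1, finrank_top, Module.finrank_fin_fun]
    rw [finrank_span_singleton hv] at h2
    omega

/-- lower bounds for the degrees of the nontrivial representations of `X` give lower bounds for the nontrivial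
irreducible characters of a quotient -/
theorem deg_of {X : Type*} [Group X] (π : X →* T) (hπ : Function.Surjective π) {d : ℕ}
    (hd : ∀ (k : ℕ) (ρ : Representation ℂ X (Fin k → ℂ)), (∃ g, ρ g ≠ 1) → d ≤ k) (χ : T → ℂ)
    (hχ : IsIrrCharacter T χ) (h : ∃ g, χ g ≠ 1) : (d : ℝ) ≤ (χ 1).re := by
  obtain ⟨k, ρ, hρ, rfl⟩ := hχ
  obtain ⟨g, hg⟩ := exists_ne_one hρ h
  obtain ⟨x, rfl⟩ := hπ g
  have h1 := hd k (ρ.comp π) ⟨x, hg⟩
  rw [Representation.char_one, finrank_fin_fun, Complex.natCast_re]
  exact_mod_cast h1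

end deg

variable {n : ℕ} {F : Type} [Field F] {T : Type} [Group T]

/-- the projection -/
noncomputable def proj (e : T ≃* ProjectiveSpecialLinearGroup (Fin n) F) : SpecialLinearGroup (Fin n) F →* T :=
  e.symm.toMonoidHom.comp (QuotientGroup.mk' _)

theorem proj_surj (e : T ≃* ProjectiveSpecialLinearGroup (Fin n) F) : Function.Surjective (proj e) :=
  e.symm.surjective.comp (QuotientGroup.mk'_surjective _)

theorem proj_ker (e : T ≃* ProjectiveSpecialLinearGroup (Fin n) F) :
    (proj e).ker ≤ Subgroup.center (SpecialLinearGroup (Fin n) F) := by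
  intro x hx
  rw [MonoidHom.mem_ker] at hx
  have h1 : e.symm (QuotientGroup.mk' _ x) = 1 := hx
  have h2 := (map_eq_one_iff e.symm e.symm.injective).1 h1
  exact (QuotientGroup.eq_one_iff x).1 h2

theorem slAct_injective : Function.Injective (slAct n F) := by
  intro x y h
  have h1 : Matrix.toLin' (x : Matrix (Fin n) (Fin n) F) = Matrix.toLin' (y : Matrix (Fin n) (Fin n) F) := h
  exact Subtype.ext (Matrix.toLin'.injective h1)

theorem glAct_injective : Function.Injective (glAct n F) := by
  intro x y h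
  have h1 : Matrix.toLin' (x : Matrix (Fin n) (Fin n) F) = Matrix.toLin' (y : Matrix (Fin n) (Fin n) F) := h
  exact Units.ext (Matrix.toLin'.injective h1)

variable [Fintype F]

theorem card_T_le (e : T ≃* ProjectiveSpecialLinearGroup (Fin n) F) :
    Nat.card T ≤ Fintype.card F ^ (n ^ 2) := by
  have h1 : Nat.card T ≤ Nat.card (SpecialLinearGroup (Fin n) F) := Nat.card_le_card_of_surjective _ (proj_surj e)
  have h2 : Nat.card (SpecialLinearGroup (Fin n) F) ≤ Nat.card (Matrix (Fin n) (Fin n) F) :=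
    Nat.card_le_card_of_injective (fun x : SpecialLinearGroup (Fin n) F => (x : Matrix (Fin n) (Fin n) F))
      Subtype.val_injective
  refine h1.trans (h2.trans_eq ?_)
  unfold Matrix
  rw [Nat.card_fun, Nat.card_fun, Nat.card_eq_fintype_card, Nat.card_eq_fintype_card, Fintype.card_fin, ← pow_mul, sq]

theorem deg_three (hn : 3 ≤ n) (e : T ≃* ProjectiveSpecialLinearGroup (Fin n) F) (χ : T → ℂ)
    (hχ : IsIrrCharacter T χ) (h : ∃ g, χ g ≠ 1) : ((Fintype.card F ^ (n - 1) - 1 : ℕ) : ℝ) ≤ (χ 1).re :=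
  deg_of (proj e) (proj_surj e) (fun _ ρ hρ => Cfsg.Agent.H990.TC.deg_SL hn ρ hρ) χ hχ h

theorem deg_two (hq : 4 ≤ Fintype.card F) (e : T ≃* ProjectiveSpecialLinearGroup (Fin 2) F) (χ : T → ℂ)
    (hχ : IsIrrCharacter T χ) (h : ∃ g, χ g ≠ 1) : (((Fintype.card F - 1) / 2 : ℕ) : ℝ) ≤ (χ 1).re := by
  refine deg_of (proj e) (proj_surj e) (fun k ρ hρ => ?_) χ hχ h
  rcases Nat.even_or_odd (Fintype.card F) with he | ho
  · have hc : ringChar F = 2 := FiniteField.even_card_iff_char_two.2 (Nat.even_iff.1 he)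
    have : CharP F 2 := ringChar.of_eq hc
    have h1 := Cfsg.Agent.H124.RowPSL.minDeg_two_even (F := F) (by omega) (Fin k → ℂ) ρ hρ
    rw [finrank_fin_fun] at h1
    omega
  · have h1 := Cfsg.Agent.H124.RowPSL.minDeg_two_odd (F := F) (by omega) ho (Fin k → ℂ) ρ hρ
    rw [finrank_fin_fun] at h1
    omega

theorem card_classes (hn : 2 ≤ n) : 2 * Nat.card (ConjClasses (SpecialLinearGroup (Fin n) F)) ≤
    5 * Fintype.card F ^ (n - 1) := (S2479.result (F := F) n hn).2.1

end Cfsg.Agent.H746.Rg.Psl
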